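import Groth.Agent.Topos.H580.ShOpen
import Mathlib.CategoryTheory.Sites.Subsheaf
import Mathlib.CategoryTheory.Subfunctor.Basic

/-!
# Sheaves of sets over the subterminal sheaf of an open are sheaves of sets on the open
-/

set_option autoImplicit false
universe u
open CategoryTheory CategoryTheory.Limits AlgebraicGeometry Opposite EtDesc

namespace Groth.Agent.Topos.H580.ShOverOpen

open Groth.Agent.Sga4h.EtaleRes Groth.Agent.Topos.H580.ShRestr Groth.Agent.Topos.H580.ShOpen

variable {X : Scheme.{u}} (U : X.Opens)

/-- The restriction functor on sheaves over the subterminal sheaf of `U`. -/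
noncomputable abbrev overRestr : Over (repSh (ofOpen U)) ⥤ Sh (U : Scheme.{u}) :=
  Over.forget (repSh (ofOpen U)) ⋙ restrSh U.ι

theorem inOpen_of_over (F : Over (repSh (ofOpen U))) {V : X.Etale} (s : sect F.left V) :
    InOpen U V :=
  inOpen_of_sect U (F.hom.hom.app (op V) s)

theorem bijective_counit (F : Sh X) {V : X.Etale} (h : InOpen U V) :
    Function.Bijective (F.obj.map ((compBcAdj U.ι).counit.app V).op) := by
  have := isIso_counit U h
  have h2 : IsIso (F.obj.map ((compBcAdj U.ι).counit.app V).op) := inferInstance
  exact (isIso_iff_bijective _).1 h2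

instance faithful_overRestr : (overRestr U).Faithful where
  map_injective {F G} a b h := by
    apply Over.OverMorphism.ext
    ext ⟨V⟩ s
    have hV := inOpen_of_over U F s
    apply (bijective_counit U G.left hV).1
    have h1 := congrArg (fun t => t.hom.app (op ((EtCoh.bc U.ι).obj V))
      (F.left.obj.map ((compBcAdj U.ι).counit.app V).op s)) h
    have h2 := ConcreteCategory.congr_hom (a.left.hom.naturality ((compBcAdj U.ι).counit.app V).op) s
    have h3 := ConcreteCategory.congr_hom (b.left.hom.naturality ((compBcAdj U.ι).counit.app V).op) s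
    exact h2.symm.trans (h1.trans h3)

section Full

variable {U}
variable {F G : Over (repSh (ofOpen U))} (φ : (overRestr U).obj F ⟶ (overRestr U).obj G)

theorem existsUnique_lift {V : X.Etale} (s : sect F.left V) :
    ∃ t : sect G.left V, G.left.obj.map ((compBcAdj U.ι).counit.app V).op t =
      φ.hom.app (op ((EtCoh.bc U.ι).obj V)) (F.left.obj.map ((compBcAdj U.ι).counit.app V).op s) :=
  (bijective_counit U G.left (inOpen_of_over U F s)).2 _

/-- The value of the lifted morphism. -/
noncomputable def liftFun {V : X.Etale} (s : sect F.left V) : sect G.left V :=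
  (existsUnique_lift φ s).choose

theorem liftFun_spec {V : X.Etale} (s : sect F.left V) :
    G.left.obj.map ((compBcAdj U.ι).counit.app V).op (liftFun φ s) =
      φ.hom.app (op ((EtCoh.bc U.ι).obj V)) (F.left.obj.map ((compBcAdj U.ι).counit.app V).op s) :=
  (existsUnique_lift φ s).choose_spec

theorem liftFun_res {V W : X.Etale} (g : W ⟶ V) (s : sect F.left V) :
    liftFun φ (F.left.obj.map g.op s) = G.left.obj.map g.op (liftFun φ s) := by
  apply (bijective_counit U G.left (inOpen_of_over U F (F.left.obj.map g.op s))).1
  rw [liftFun_spec]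
  have hn : (EtShriek.compEtale U.ι).map ((EtCoh.bc U.ι).map g) ≫ (compBcAdj U.ι).counit.app V =
      (compBcAdj U.ι).counit.app W ≫ g := (compBcAdj U.ι).counit.naturality g
  have key : ∀ (H : Sh X) (s : sect H V), H.obj.map ((compBcAdj U.ι).counit.app W).op (H.obj.map g.op s) =
      H.obj.map ((EtShriek.compEtale U.ι).map ((EtCoh.bc U.ι).map g)).op
        (H.obj.map ((compBcAdj U.ι).counit.app V).op s) := by
    intro H s
    rw [← Functor.map_comp_apply, ← Functor.map_comp_apply, ← op_comp, ← op_comp, hn]
  refine Eq.trans ?_ (key G.left (liftFun φ s)).symm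
  rw [liftFun_spec]
  refine (congrArg (φ.hom.app (op ((EtCoh.bc U.ι).obj W))) (key F.left s)).trans ?_
  exact ConcreteCategory.congr_hom (φ.hom.naturality ((EtCoh.bc U.ι).map g).op) _

/-- The lifted morphism of sheaves on `X`. -/
noncomputable def liftHom : F.left ⟶ G.left :=
  ⟨{ app := fun V => TypeCat.ofHom (liftFun φ : sect F.left V.unop → sect G.left V.unop)
     naturality := fun V W g => by
       ext s
       exact liftFun_res φ g.unop s }⟩

theorem liftHom_app {V : X.Etale} (s : sect F.left V) : (liftHom φ).hom.app (op V) s = liftFun φ s := rfl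

end Full

/-- The counit at `(W ⟶ U ⟶ X)` is the image of the inverse of the unit. -/
theorem counit_compEtale (W : (U : Scheme.{u}).Etale) :
    (compBcAdj U.ι).counit.app ((EtShriek.compEtale U.ι).obj W) =
      (EtShriek.compEtale U.ι).map (inv ((compBcAdj U.ι).unit.app W)) := by
  rw [Functor.map_inv]
  exact IsIso.eq_inv_of_hom_inv_id ((compBcAdj U.ι).left_triangle_components W)

instance full_overRestr : (overRestr U).Full where
  map_surjective {F G} φ := by
    refine ⟨Over.homMk (liftHom φ) ?_, ?_⟩
    · ext ⟨V⟩ s
      exact subsingleton_repSh_open U V _ _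
    · ext ⟨W⟩ s
      have key : ∀ (H : Sh X) (s : sect H ((EtShriek.compEtale U.ι).obj W)),
          H.obj.map ((compBcAdj U.ι).counit.app ((EtShriek.compEtale U.ι).obj W)).op s =
          H.obj.map ((EtShriek.compEtale U.ι).map (inv ((compBcAdj U.ι).unit.app W))).op s := by
        intro H s
        rw [counit_compEtale]
      have main : ∀ s : sect F.left ((EtShriek.compEtale U.ι).obj W),
          liftFun φ s = φ.hom.app (op W) s := by
        intro s
        apply (bijective_counit U G.left (inOpen_compEtale U W)).1
        rw [liftFun_spec]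
        refine (congrArg _ (key F.left s)).trans ?_
        refine Eq.trans ?_ (key G.left _).symm
        exact ConcreteCategory.congr_hom (φ.hom.naturality (inv ((compBcAdj U.ι).unit.app W)).op) s
      exact main s

/-- The subsheaf of `j_* G` of sections over objects lying over `U`: this is `j_! G`. -/
noncomputable def shriekSub (G : Sh (U : Scheme.{u})) : Subfunctor ((pushSh U.ι).obj G).obj where
  obj V := {_s | InOpen U V.unop}
  map g _ h := inOpen_of_hom U g.unop h

theorem isSheaf_shriekSub (G : Sh (U : Scheme.{u})) :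
    Presieve.IsSheaf X.smallEtaleTopology (shriekSub U G).toFunctor := by
  rw [Subfunctor.isSheaf_iff _ (Sga4A.EtStalk.isSheaf_type ((pushSh U.ι).obj G))]
  intro V s hs x
  rw [Etbase.EtSite.mem_iff] at hs
  obtain ⟨V', g, v, hg, hv⟩ := hs x
  have h1 : V'.hom v ∈ U := hg v
  have h2 : g.left ≫ V.unop.hom = V'.hom := MorphismProperty.Over.w g
  have e : V'.hom v = V.unop.hom x := by
    rw [← h2, ← hv]; rfl
  rwa [e] at h1

/-- `j_! G`. -/
noncomputable def shriekSh (G : Sh (U : Scheme.{u})) : Sh X :=
  ⟨(shriekSub U G).toFunctor, (isSheaf_iff_isSheaf_of_type _ _).2 (isSheaf_shriekSub U G)⟩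

/-- `j_! G` as a sheaf over the subterminal sheaf. -/
noncomputable def shriekOver (G : Sh (U : Scheme.{u})) : Over (repSh (ofOpen U)) :=
  Over.mk (Y := shriekSh U G)
    ⟨{ app := fun V => TypeCat.ofHom (fun s => (exists_sect U s.2).some)
       naturality := fun V W g => by
        ext s
        exact subsingleton_repSh_open U _ _ _ }⟩

instance essSurj_overRestr : (overRestr U).EssSurj where
  mem_essImage G := by
    refine ⟨shriekOver U G, ⟨?_⟩⟩
    let a : shriekSh U G ⟶ (pushSh U.ι).obj G := ⟨(shriekSub U G).ι⟩
    have hb : IsIso ((restrSh U.ι).map a) := by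
      have h1 : ∀ W, IsIso (((restrSh U.ι).map a).hom.app W) := by
        rintro ⟨W⟩
        rw [isIso_iff_bijective]
        refine ⟨Subtype.val_injective, fun s => ?_⟩
        exact ⟨⟨s, inOpen_compEtale U W⟩, rfl⟩
      have h2 : IsIso ((restrSh U.ι).map a).hom := NatIso.isIso_of_isIso_app _
      have h3 : IsIso ((sheafToPresheaf _ _).map ((restrSh U.ι).map a)) := h2
      exact isIso_of_reflects_iso _ (sheafToPresheaf _ _)
    exact (@asIso _ _ _ _ ((restrSh U.ι).map a) hb : (restrSh U.ι).obj (shriekSh U G) ≅ _) ≪≫
      asIso ((restrPushShAdj U.ι).counit.app G)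

instance isEquivalence_overRestr : (overRestr U).IsEquivalence where

theorem isEquivalence_over_pullSh :
    (Over.forget (repSh (ofOpen U)) ⋙ pullSh U.ι).IsEquivalence :=
  Functor.isEquivalence_of_iso (Functor.isoWhiskerLeft _ (pullShIsoRestr U.ι).symm)

end Groth.Agent.Topos.H580.ShOverOpen
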