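import Groth.Agent.Topos.H580.ExtFive
import Groth.Prelude.Def_ToposFin2
import Mathlib.Algebra.Category.Grp.Adjunctions
import Mathlib.CategoryTheory.Sites.Abelian
import Mathlib.CategoryTheory.Sites.EpiMono

/-!
# Cohomology with supports in the complement of a coherent open and filtered colimits:
reduction to `H^q(K, -)` for `K` the final object and `K = U`
-/

set_option autoImplicit false
universe u
open CategoryTheory CategoryTheory.Limits Opposite

namespace Groth.Agent.Topos.H580.HZReduce

open Groth.Agent.CohtopB.ExtColim Groth.Agent.Topos.H580.ExtFive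

variable {C : Type u} [SmallCategory C] {J : GrothendieckTopology C}

/-- The free abelian sheaf functor preserves monomorphisms. -/
theorem mono_freeAb_map {K L : ToposFin.Sh J} (f : K ⟶ L) [Mono f] : Mono ((ToposFin.freeAb J).map f) := by
  have h1 : Mono ((sheafToPresheaf J (Type u)).map f) := inferInstance
  have h2 : Mono (Functor.whiskerRight ((sheafToPresheaf J (Type u)).map f) AddCommGrpCat.free.{u}) := by
    have : ∀ W, Mono ((Functor.whiskerRight ((sheafToPresheaf J (Type u)).map f)
        AddCommGrpCat.free.{u}).app W) := by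
      intro W
      rw [Functor.whiskerRight_app]
      infer_instance
    exact NatTrans.mono_of_mono_app _
  change Mono ((presheafToSheaf J AddCommGrpCat.{u}).map
    (Functor.whiskerRight ((sheafToPresheaf J (Type u)).map f) AddCommGrpCat.free.{u}))
  have : PreservesFiniteLimits (presheafToSheaf J AddCommGrpCat.{u}) := inferInstance
  exact (presheafToSheaf J AddCommGrpCat.{u}).map_mono _

/-- The short exact sequence `0 → Z[U] → Z[e] → Z/Z_U → 0`. -/
noncomputable def sesZ (U : ToposFin.Sh J) : ShortComplex (Sheaf J AddCommGrpCat.{u}) :=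
  ShortComplex.mk ((ToposFin.freeAb J).map (terminal.from U))
    (cokernel.π ((ToposFin.freeAb J).map (terminal.from U))) (cokernel.condition _)

theorem shortExact_sesZ (U : ToposFin.Sh J) [Mono (terminal.from U)] : (sesZ U).ShortExact where
  exact := ShortComplex.exact_of_g_is_cokernel _ (cokernelIsCokernel (sesZ U).f)
  mono_f := mono_freeAb_map _
  epi_g := inferInstanceAs (Epi (cokernel.π ((ToposFin.freeAb J).map (terminal.from U))))

/-- If `H^q(⊤, -)` and `H^q(U, -)` commute with `Λ`-shaped colimits for all `q`, so do the `H^q_Z(E, -)`. -/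
theorem preserves_HZ (U : ToposFin.Sh J) [Mono (terminal.from U)]
    (Λ : Type u) [SmallCategory Λ] [IsFiltered Λ]
    (hT : ∀ q, PreservesColimitsOfShape Λ (ToposFin.HKFunctor (⊤_ (ToposFin.Sh J)) q))
    (hU : ∀ q, PreservesColimitsOfShape Λ (ToposFin.HKFunctor U q)) (q : ℕ) :
    PreservesColimitsOfShape Λ (ToposFin.HZFunctor U q) := by
  have h1 : ∀ q, ExtCommutes Λ (sesZ U).X₁ q := fun q => by
    have : PreservesColimitsOfShape Λ (Abelian.extFunctorObj (sesZ U).X₁ q) := hU q
    exact ExtCommutes.of_preserves (G := (sesZ U).X₁) (p := q) (I := Λ)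
  have h2 : ∀ q, ExtCommutes Λ (sesZ U).X₂ q := fun q => by
    have : PreservesColimitsOfShape Λ (Abelian.extFunctorObj (sesZ U).X₂ q) := hT q
    exact ExtCommutes.of_preserves (G := (sesZ U).X₂) (p := q) (I := Λ)
  exact (extCommutes_third (shortExact_sesZ U) h1 h2 q).preserves

/-- Same with `ExtCommutes` hypotheses. -/
theorem preserves_HZ' (U : ToposFin.Sh J) [Mono (terminal.from U)]
    (Λ : Type u) [SmallCategory Λ] [IsFiltered Λ]
    (hT : ∀ q, ExtCommutes Λ ((ToposFin.freeAb J).obj (⊤_ (ToposFin.Sh J))) q)
    (hU : ∀ q, ExtCommutes Λ ((ToposFin.freeAb J).obj U) q) (q : ℕ) :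
    PreservesColimitsOfShape Λ (ToposFin.HZFunctor U q) :=
  (extCommutes_third (shortExact_sesZ U) hU hT q).preserves

end Groth.Agent.Topos.H580.HZReduce
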