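import Groth.Agent.CohtopB.ExtColim
import Groth.Prelude.Def_ToposFin2

/-!
# Filtered colimits and Ext: the five lemma in the first variable

`extCommutes_third`: for a short exact sequence `0 → X₁ → X₂ → X₃ → 0`, if all the `Ext^q(X₁, -)` and
`Ext^q(X₂, -)` commute with `I`-shaped (filtered) colimits, then so do the `Ext^q(X₃, -)`.
-/

set_option autoImplicit false

universe w v u v' u'

open CategoryTheory Limits Abelian

namespace Groth.Agent.Topos.H580.ExtFive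

open Groth.Agent.CohtopB.ExtColim

section

variable {A : Type u} [Category.{v} A] [Abelian A] [HasExt.{w} A]
variable {I : Type u'} [Category.{v'} I] [IsFiltered I]
variable {S : ShortComplex A} (hS : S.ShortExact)

omit [IsFiltered I] in
/-- Precomposition commutes with pushing forward to a later stage. -/
theorem pre_push {F : I ⥤ A} {X Y : A} {i j : I} (f : i ⟶ j) {a p q : ℕ} (α : Ext X Y a)
    (x : Ext Y (F.obj i) p) (h : a + p = q) :
    (α.comp x h).comp (Ext.mk₀ (F.map f)) (add_zero q) =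
      α.comp (x.comp (Ext.mk₀ (F.map f)) (add_zero p)) h := by
  rw [Ext.comp_assoc_of_third_deg_zero]

omit [IsFiltered I] in
theorem pre_push' {X Y M N : A} (f : M ⟶ N) {a p q : ℕ} (α : Ext X Y a)
    (x : Ext Y M p) (h : a + p = q) :
    (α.comp x h).comp (Ext.mk₀ f) (add_zero q) =
      α.comp (x.comp (Ext.mk₀ f) (add_zero p)) h := by
  rw [Ext.comp_assoc_of_third_deg_zero]

omit [IsFiltered I] in
theorem push_push {F : I ⥤ A} {X : A} {i j k : I} (f : i ⟶ j) (g : j ⟶ k) {p : ℕ}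
    (x : Ext X (F.obj i) p) :
    (x.comp (Ext.mk₀ (F.map f)) (add_zero p)).comp (Ext.mk₀ (F.map g)) (add_zero p) =
      x.comp (Ext.mk₀ (F.map (f ≫ g))) (add_zero p) := by
  rw [Ext.comp_assoc_of_third_deg_zero, Ext.mk₀_comp_mk₀, F.map_comp]

omit [IsFiltered I] in
include hS in
theorem extCommutes_third_zero (h1 : ExtCommutes I S.X₁ 0) (h2 : ExtCommutes I S.X₂ 0) :
    ExtCommutes I S.X₃ 0 := by
  intro F c hc
  have H1 := (elemColim_ext_iff c S.X₁ 0).1 (h1 F c hc)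
  have H2 := (elemColim_ext_iff c S.X₂ 0).1 (h2 F c hc)
  have : Epi S.g := hS.epi_g
  rw [elemColim_ext_iff]
  refine ⟨fun x => ?_, fun i y hy => ?_⟩
  · obtain ⟨i, y, hy⟩ := H2.1 ((Ext.mk₀ S.g).comp x (zero_add 0))
    obtain ⟨j, f, hf⟩ := H1.2 i ((Ext.mk₀ S.f).comp y (zero_add 0)) (by
      rw [pre_push', hy, ← Ext.comp_assoc_of_second_deg_zero, Ext.mk₀_comp_mk₀, S.zero, Ext.mk₀_zero,
        Ext.zero_comp])
    rw [pre_push] at hf
    obtain ⟨z, hz⟩ := Ext.contravariant_sequence_exact₂ hS _ _ hf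
    refine ⟨j, z, ?_⟩
    apply Ext.precomp_mk₀_injective_of_epi _ S.g
    change (Ext.mk₀ S.g).comp (z.comp (Ext.mk₀ (c.ι.app j)) (add_zero 0)) (zero_add 0) =
      (Ext.mk₀ S.g).comp x (zero_add 0)
    rw [← pre_push', hz, comp_mk₀_ι, hy]
  · obtain ⟨j, f, hf⟩ := H2.2 i ((Ext.mk₀ S.g).comp y (zero_add 0)) (by
      rw [pre_push', hy, Ext.comp_zero])
    refine ⟨j, f, ?_⟩
    apply Ext.precomp_mk₀_injective_of_epi _ S.g
    change (Ext.mk₀ S.g).comp (y.comp (Ext.mk₀ (F.map f)) (add_zero 0)) (zero_add 0) =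
      (Ext.mk₀ S.g).comp 0 (zero_add 0)
    rw [← pre_push, hf, Ext.comp_zero]

include hS in
theorem extCommutes_third_succ (p : ℕ) (h1 : ExtCommutes I S.X₁ p) (h1' : ExtCommutes I S.X₁ (p + 1))
    (h2 : ExtCommutes I S.X₂ p) (h2' : ExtCommutes I S.X₂ (p + 1)) :
    ExtCommutes I S.X₃ (p + 1) := by
  intro F c hc
  have H1 := (elemColim_ext_iff c S.X₁ p).1 (h1 F c hc)
  have H1e := h1 F c hc
  have H1' := (elemColim_ext_iff c S.X₁ (p + 1)).1 (h1' F c hc)
  have H2 := (elemColim_ext_iff c S.X₂ p).1 (h2 F c hc)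
  have H2' := (elemColim_ext_iff c S.X₂ (p + 1)).1 (h2' F c hc)
  have h1p : 1 + p = p + 1 := add_comm 1 p
  rw [elemColim_ext_iff]
  refine ⟨fun x => ?_, fun i y hy => ?_⟩
  · obtain ⟨i, y, hy⟩ := H2'.1 ((Ext.mk₀ S.g).comp x (zero_add _))
    obtain ⟨j, f, hf⟩ := H1'.2 i ((Ext.mk₀ S.f).comp y (zero_add _)) (by
      rw [pre_push', hy, ← Ext.comp_assoc_of_second_deg_zero, Ext.mk₀_comp_mk₀, S.zero, Ext.mk₀_zero,
        Ext.zero_comp])
    rw [pre_push] at hf
    obtain ⟨z, hz⟩ := Ext.contravariant_sequence_exact₂ hS _ _ hf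
    let z' : Ext S.X₃ c.pt (p + 1) := z.comp (Ext.mk₀ (c.ι.app j)) (add_zero _)
    have e0 : (Ext.mk₀ S.g).comp z' (zero_add _) = (Ext.mk₀ S.g).comp x (zero_add _) := by
      refine (pre_push' (c.ι.app j) (Ext.mk₀ S.g) z (zero_add _)).symm.trans ?_
      rw [hz, comp_mk₀_ι, hy]
    have e1 : (Ext.mk₀ S.g).comp (x - z') (zero_add _) = 0 := by
      rw [sub_eq_add_neg, Ext.comp_add, Ext.comp_neg, e0, add_neg_cancel]
    obtain ⟨w, hw⟩ := Ext.contravariant_sequence_exact₃ hS _ _ e1 h1p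
    obtain ⟨k, v, hv⟩ := H1.1 w
    let a := IsFiltered.leftToMax j k
    let b := IsFiltered.rightToMax j k
    refine ⟨IsFiltered.max j k, z.comp (Ext.mk₀ (F.map a)) (add_zero _) +
      (hS.extClass.comp v h1p).comp (Ext.mk₀ (F.map b)) (add_zero _), ?_⟩
    rw [Ext.add_comp, comp_mk₀_ι, comp_mk₀_ι, pre_push', hv, hw]
    exact add_sub_cancel z' x
  · obtain ⟨j, f, hf⟩ := H2'.2 i ((Ext.mk₀ S.g).comp y (zero_add _)) (by
      rw [pre_push', hy, Ext.comp_zero])
    rw [pre_push] at hf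
    obtain ⟨w, hw⟩ := Ext.contravariant_sequence_exact₃ hS _ _ hf h1p
    have e1 : hS.extClass.comp (w.comp (Ext.mk₀ (c.ι.app j)) (add_zero _)) h1p = 0 := by
      rw [← pre_push', hw, comp_mk₀_ι, hy]
    obtain ⟨v, hv⟩ := Ext.contravariant_sequence_exact₁ hS _ _ h1p e1
    obtain ⟨k, t, ht⟩ := H2.1 v
    have e2 : w.comp (Ext.mk₀ (c.ι.app j)) (add_zero p) =
        ((Ext.mk₀ S.f).comp t (zero_add p)).comp (Ext.mk₀ (c.ι.app k)) (add_zero p) := by
      rw [pre_push', ht, hv]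
    obtain ⟨l, a, b, hab⟩ := H1e.ext_inj _ _ e2
    refine ⟨l, f ≫ a, ?_⟩
    rw [← push_push, ← hw, pre_push, hab, pre_push, ← Ext.comp_assoc_of_second_deg_zero,
      hS.extClass_comp, Ext.zero_comp]

include hS in
/-- The five lemma for `ExtCommutes` in the first variable. -/
theorem extCommutes_third (h1 : ∀ q, ExtCommutes I S.X₁ q) (h2 : ∀ q, ExtCommutes I S.X₂ q) (q : ℕ) :
    ExtCommutes I S.X₃ q := by
  cases q with
  | zero => exact extCommutes_third_zero hS (h1 0) (h2 0)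
  | succ p => exact extCommutes_third_succ hS p (h1 p) (h1 (p + 1)) (h2 p) (h2 (p + 1))

end

end Groth.Agent.Topos.H580.ExtFive
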