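import Groth.Agent.Topos.H580.ShRestr
import Groth.Agent.Sga4A.EtStalk
import Mathlib.CategoryTheory.Sites.LocallySurjective

/-!
# The subterminal sheaf of an open subscheme, and sheaves over it
-/

set_option autoImplicit false
universe u
open CategoryTheory CategoryTheory.Limits AlgebraicGeometry Opposite EtDesc

namespace Groth.Agent.Topos.H580.ShOpen

open Groth.Agent.Sga4h.EtaleRes Groth.Agent.Topos.H580.ShRestr

variable {X : Scheme.{u}}

/-- The (lifted) presheaf of sets represented by an etale scheme. -/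
noncomputable abbrev repPre (V : X.Etale) : X.Etaleᵒᵖ ⥤ Type (u + 1) :=
  yoneda.obj V ⋙ uliftFunctor.{u + 1, u}

/-- The section of `repSh W` attached to a morphism `V ⟶ W`. -/
noncomputable def ofHom {V W : X.Etale} (f : V ⟶ W) : sect (repSh W) V :=
  (toSheafify X.smallEtaleTopology (repPre W)).app (op V) ⟨f⟩

/-- Sections of `repSh W` locally come from morphisms. -/
theorem local_rep {V W : X.Etale} (s : sect (repSh W) V) (x : V.left) :
    ∃ (V' : X.Etale) (g : V' ⟶ V) (v : V'.left) (f : V' ⟶ W), g.left v = x ∧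
      ofHom f = (repSh W).obj.map g.op s := by
  have h := Presheaf.imageSieve_mem X.smallEtaleTopology
    (toSheafify X.smallEtaleTopology (repPre W)) s
  rw [Etbase.EtSite.mem_iff] at h
  obtain ⟨V', g, v, ⟨⟨f⟩, hf⟩, hv⟩ := h x
  exact ⟨V', g, v, f, hv, hf⟩

/-- If two morphisms into `W` are always equal, `repSh W` is subterminal. -/
theorem subsingleton_sect {W : X.Etale} (hW : ∀ (V : X.Etale) (f g : V ⟶ W), f = g) (V : X.Etale)
    (s t : sect (repSh W) V) : s = t := by
  refine Sga4A.EtStalk.sect_ext _ V s t (fun x => ?_)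
  obtain ⟨V₁, g₁, v₁, f₁, hv₁, h₁⟩ := local_rep s x
  obtain ⟨V₂, g₂, v₂, f₂, hv₂, h₂⟩ := local_rep t x
  obtain ⟨P, a, b, p, hab, ha, hb⟩ := Etbase.EtSite.exists_pullback g₁ g₂ v₁ v₂ (by rw [hv₁, hv₂])
  refine ⟨P, a ≫ g₁, p, ?_, ?_⟩
  · rw [← hv₁, ← ha]; rfl
  · have e1 : (repSh W).obj.map (a ≫ g₁).op s = ofHom (a ≫ f₁) := by
      rw [op_comp, Functor.map_comp]
      refine (congrArg ((repSh W).obj.map a.op) h₁.symm).trans ?_
      exact (ConcreteCategory.congr_hom
        ((toSheafify X.smallEtaleTopology (repPre W)).naturality a.op) ⟨f₁⟩).symm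
    have e2 : (repSh W).obj.map (b ≫ g₂).op t = ofHom (b ≫ f₂) := by
      rw [op_comp, Functor.map_comp]
      refine (congrArg ((repSh W).obj.map b.op) h₂.symm).trans ?_
      exact (ConcreteCategory.congr_hom
        ((toSheafify X.smallEtaleTopology (repPre W)).naturality b.op) ⟨f₂⟩).symm
    rw [e1, hab, e2, hW _ (a ≫ f₁) (b ≫ f₂)]

variable (U : X.Opens)

theorem hom_ofOpen_ext (V : X.Etale) (f g : V ⟶ ofOpen U) : f = g := by
  apply MorphismProperty.Over.Hom.ext
  have h1 : f.left ≫ U.ι = V.hom := MorphismProperty.Over.w f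
  have h2 : g.left ≫ U.ι = V.hom := MorphismProperty.Over.w g
  exact (cancel_mono U.ι).1 (h1.trans h2.symm)

theorem subsingleton_repSh_open (V : X.Etale) (s t : sect (repSh (ofOpen U)) V) : s = t :=
  subsingleton_sect (hom_ofOpen_ext U) V s t

/-- The structure morphism factors set-theoretically through `U`. -/
def InOpen (V : X.Etale) : Prop := ∀ x : V.left, V.hom x ∈ U

theorem inOpen_of_hom {V V' : X.Etale} (g : V' ⟶ V) (h : InOpen U V) : InOpen U V' := by
  intro x
  have : g.left ≫ V.hom = V'.hom := MorphismProperty.Over.w g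
  have h2 := h (g.left x)
  have e : V'.hom x = V.hom (g.left x) := by
    rw [← this]; rfl
  rw [e]; exact h2

theorem inOpen_ofOpen : InOpen U (ofOpen U) := by
  intro x
  change U.ι x ∈ U
  exact x.2

theorem inOpen_of_sect {V : X.Etale} (s : sect (repSh (ofOpen U)) V) : InOpen U V := by
  intro x
  obtain ⟨V', g, v, f, hv, -⟩ := local_rep s x
  have h1 := inOpen_of_hom U f (inOpen_ofOpen U) v
  have h2 : g.left ≫ V.hom = V'.hom := MorphismProperty.Over.w g
  have e : V'.hom v = V.hom x := by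
    rw [← h2, ← hv]; rfl
  rwa [e] at h1

theorem exists_lift_of_inOpen {V : X.Etale} (h : InOpen U V) :
    ∃ l : V.left ⟶ (U : Scheme.{u}), l ≫ U.ι = V.hom := by
  refine ⟨IsOpenImmersion.lift U.ι V.hom ?_, IsOpenImmersion.lift_fac _ _ _⟩
  rw [Scheme.Opens.range_ι]
  rintro _ ⟨x, rfl⟩
  exact h x

theorem isIso_counit {V : X.Etale} (h : InOpen U V) : IsIso ((compBcAdj U.ι).counit.app V) := by
  obtain ⟨l, hl⟩ := exists_lift_of_inOpen U h
  exact isIso_counit_of_factors U.ι V l hl

theorem inOpen_compEtale (W : (U : Scheme.{u}).Etale) :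
    InOpen U ((EtShriek.compEtale U.ι).obj W) := by
  intro x
  change U.ι (W.hom x) ∈ U
  exact (W.hom x).2

/-- `repSh (ofOpen U)` has a section over everything lying over `U`. -/
theorem exists_sect {V : X.Etale} (h : InOpen U V) : Nonempty (sect (repSh (ofOpen U)) V) := by
  obtain ⟨l, hl⟩ := exists_lift_of_inOpen U h
  exact ⟨ofHom (MorphismProperty.Over.homMk l hl)⟩

end Groth.Agent.Topos.H580.ShOpen
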