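import Groth.Prelude.Def_EtOpen
import Groth.Agent.Sga4h.EtaleRes

/-!
# Restriction of etale sheaves of sets along an etale morphism `j : U ⟶ X`

* `restrSh j : Sh X ⥤ Sh U`: precomposition with `EtShriek.compEtale j`.
* `restrPushShAdj j : restrSh j ⊣ pushSh j`, `pullShIsoRestr j : pullSh j ≅ restrSh j`.
* for `j` a monomorphism (open immersion): `isIso_unit`, `isIso_counit_of_factors`,
  `restrPushSh_counit_isIso`, `isIso_adjSh_counit`.
-/

set_option autoImplicit false
universe u
open CategoryTheory CategoryTheory.Limits AlgebraicGeometry Opposite EtDesc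

namespace Groth.Agent.Topos.H580.ShRestr

open Groth.Agent.Sga4h.EtaleRes

variable {U X : Scheme.{u}}

section Etale

variable (j : U ⟶ X) [Etale j]

instance jc : EtShriek.JCont j := jCont j

/-- Restriction of sheaves of sets along an etale morphism. -/
noncomputable abbrev restrSh : Sh X ⥤ Sh U :=
  (EtShriek.compEtale j).sheafPushforwardContinuous (Type (u + 1)) U.smallEtaleTopology
    X.smallEtaleTopology

/-- Restriction along an etale morphism is left adjoint to direct image. -/
noncomputable def restrPushShAdj : restrSh j ⊣ pushSh j :=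
  (compBcAdj j).sheafPushforwardContinuous U.smallEtaleTopology X.smallEtaleTopology

theorem restrPushShAdj_unit_app (F : Sh X) (V : X.Etaleᵒᵖ) :
    ((restrPushShAdj j).unit.app F).hom.app V =
      F.obj.map ((compBcAdj j).counit.app V.unop).op := rfl

theorem restrPushShAdj_counit_app (F : Sh U) (V : U.Etaleᵒᵖ) :
    ((restrPushShAdj j).counit.app F).hom.app V =
      F.obj.map ((compBcAdj j).unit.app V.unop).op := rfl

/-- Inverse image along an etale morphism is restriction. -/
noncomputable def pullShIsoRestr : pullSh j ≅ restrSh j :=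
  (adjSh j).leftAdjointUniq (restrPushShAdj j)

theorem unit_pullShIsoRestr (F : Sh X) :
    (adjSh j).unit.app F ≫ (pushSh j).map ((pullShIsoRestr j).hom.app F) =
      (restrPushShAdj j).unit.app F :=
  Adjunction.unit_leftAdjointUniq_hom_app _ _ _

theorem pullShIsoRestr_counit (F : Sh U) :
    (pullShIsoRestr j).hom.app ((pushSh j).obj F) ≫ (restrPushShAdj j).counit.app F =
      (adjSh j).counit.app F :=
  Adjunction.leftAdjointUniq_hom_app_counit _ _ _

end Etale

section Mono

variable (j : U ⟶ X) [Etale j] [Mono j]

omit [Etale j] in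
/-- If `V ⟶ X` factors through the monomorphism `j`, the projection `V ×_X U ⟶ V` is an isomorphism. -/
theorem isIso_fst_of_factors {V : Scheme.{u}} (p : V ⟶ X) (h : V ⟶ U) (w : h ≫ j = p) :
    IsIso (pullback.fst p j) := by
  refine ⟨pullback.lift (𝟙 _) h (by rw [w, Category.id_comp]), ?_, ?_⟩
  · apply pullback.hom_ext
    · rw [Category.assoc, pullback.lift_fst, Category.comp_id, Category.id_comp]
    · rw [← cancel_mono j, Category.assoc, Category.assoc, pullback.lift_snd_assoc, w,
        pullback.condition, Category.id_comp]
  · exact pullback.lift_fst _ _ _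

/-- A morphism of the small etale site which is an isomorphism of schemes is an isomorphism. -/
theorem isIso_of_isIso_left {X : Scheme.{u}} {V W : X.Etale} (g : V ⟶ W) (h : IsIso g.left) : IsIso g := by
  have h2 : IsIso ((Scheme.Etale.forget X).map g) := by
    have : IsIso ((Over.forget X).map ((Scheme.Etale.forget X).map g)) := h
    exact isIso_of_reflects_iso _ (Over.forget X)
  exact isIso_of_reflects_iso _ (Scheme.Etale.forget X)

/-- If `V ⟶ X` factors through the monomorphism `j`, the projection `V ×_X U ⟶ V` is an isomorphism
(in the small etale site). -/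
theorem isIso_counit_of_factors (V : X.Etale) (h : V.left ⟶ U) (w : h ≫ j = V.hom) :
    IsIso ((compBcAdj j).counit.app V) :=
  isIso_of_isIso_left _ (isIso_fst_of_factors j V.hom h w)

/-- The unit `W ⟶ (W ⟶ U ⟶ X) ×_X U` is an isomorphism. -/
instance isIso_unit (W : U.Etale) : IsIso ((compBcAdj j).unit.app W) :=
  inferInstance

instance isIso_restrPushShAdj_counit (F : Sh U) : IsIso ((restrPushShAdj j).counit.app F) := by
  have h1 : ∀ V, IsIso (((restrPushShAdj j).counit.app F).hom.app V) := fun V => by
    have h := isIso_unit j V.unop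
    have h' : IsIso ((compBcAdj j).unit.app V.unop).op := inferInstance
    exact Functor.map_isIso F.obj _
  have h2 : IsIso ((restrPushShAdj j).counit.app F).hom := NatIso.isIso_of_isIso_app _
  have h3 : IsIso ((sheafToPresheaf _ _).map ((restrPushShAdj j).counit.app F)) := h2
  exact isIso_of_reflects_iso _ (sheafToPresheaf _ _)

/-- For an etale monomorphism `j` (an open immersion) the canonical map `j^* j_* F ⟶ F` is an isomorphism. -/
instance isIso_adjSh_counit (F : Sh U) : IsIso ((adjSh j).counit.app F) := by
  rw [← pullShIsoRestr_counit]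
  infer_instance

end Mono

end Groth.Agent.Topos.H580.ShRestr
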